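import Mathlib

set_option autoImplicit false

/-! Elementary analysis of two commuting conjugate involutions `z`, `t` whose centralizers have
all squares and commutators in `{1, z}` resp. `{1, t}`. -/

namespace Cfsg.Agent.Lib.Helper48.D8Char

variable {L : Type*} [Group L]

/-- `s` is an involution whose centralizer has all squares and commutators in `{1, s}`. -/
structure Good (s : L) : Prop where
  ne_one : s ≠ 1
  sq : s * s = 1
  sq_mem : ∀ x, x * s = s * x → x * x = 1 ∨ x * x = s
  comm_mem : ∀ x y, x * s = s * x → y * s = s * y →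
    x * y * x⁻¹ * y⁻¹ = 1 ∨ x * y * x⁻¹ * y⁻¹ = s

theorem Good.conj {s : L} (hs : Good s) (g : L) : Good (g * s * g⁻¹) := by
  have key : ∀ x, x * (g * s * g⁻¹) = g * s * g⁻¹ * x → (g⁻¹ * x * g) * s = s * (g⁻¹ * x * g) := by
    intro x hx
    have : g⁻¹ * (x * (g * s * g⁻¹)) * g = g⁻¹ * (g * s * g⁻¹ * x) * g := by rw [hx]
    calc g⁻¹ * x * g * s = g⁻¹ * (x * (g * s * g⁻¹)) * g := by group
      _ = g⁻¹ * (g * s * g⁻¹ * x) * g := this
      _ = s * (g⁻¹ * x * g) := by group
  refine ⟨?_, ?_, ?_, ?_⟩
  · intro h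
    apply hs.ne_one
    have : s = g⁻¹ * (g * s * g⁻¹) * g := by group
    rw [this, h]; group
  · calc g * s * g⁻¹ * (g * s * g⁻¹) = g * (s * s) * g⁻¹ := by group
      _ = 1 := by rw [hs.sq]; group
  · intro x hx
    rcases hs.sq_mem _ (key x hx) with h | h
    · left
      have : x * x = g * ((g⁻¹ * x * g) * (g⁻¹ * x * g)) * g⁻¹ := by group
      rw [this, h]; group
    · right
      have : x * x = g * ((g⁻¹ * x * g) * (g⁻¹ * x * g)) * g⁻¹ := by group
      rw [this, h]
  · intro x y hx hy
    have e : x * y * x⁻¹ * y⁻¹ =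
        g * ((g⁻¹ * x * g) * (g⁻¹ * y * g) * (g⁻¹ * x * g)⁻¹ * (g⁻¹ * y * g)⁻¹) * g⁻¹ := by group
    rcases hs.comm_mem _ _ (key x hx) (key y hy) with h | h
    · left; rw [e, h]; group
    · right; rw [e, h]

/-- membership in the centre of the centralizer of `s` -/
def InZ (s x : L) : Prop := x * s = s * x ∧ ∀ y, y * s = s * y → x * y = y * x

theorem InZ.mul {s x y : L} (hx : InZ s x) (hy : InZ s y) : InZ s (x * y) := by
  refine ⟨?_, ?_⟩
  · rw [mul_assoc, hy.1, ← mul_assoc, hx.1, mul_assoc]
  · intro w hw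
    rw [mul_assoc, hy.2 w hw, ← mul_assoc, hx.2 w hw, mul_assoc]

theorem InZ.inv {s x : L} (hx : InZ s x) : InZ s x⁻¹ := by
  refine ⟨?_, ?_⟩
  · have := hx.1
    calc x⁻¹ * s = x⁻¹ * (s * x) * x⁻¹ := by group
      _ = x⁻¹ * (x * s) * x⁻¹ := by rw [this]
      _ = s * x⁻¹ := by group
  · intro w hw
    have := hx.2 w hw
    calc x⁻¹ * w = x⁻¹ * (w * x) * x⁻¹ := by group
      _ = x⁻¹ * (x * w) * x⁻¹ := by rw [this]
      _ = w * x⁻¹ := by group

theorem InZ.one (s : L) : InZ s 1 := ⟨by simp, fun y _ => by simp⟩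

theorem InZ.self (s : L) : InZ s s := ⟨rfl, fun y hy => hy.symm⟩

theorem comm_form {x y c : L} (h : x * y * x⁻¹ * y⁻¹ = c) : x * y = c * y * x := by
  rw [← h]; group

theorem comm_form_one {x y : L} (h : x * y * x⁻¹ * y⁻¹ = 1) : x * y = y * x := by
  rw [comm_form h, one_mul]

/-- `y` lies in the intersection of the centralizers of `z` and `t`. -/
def InD (z t y : L) : Prop := y * z = z * y ∧ y * t = t * y

/-- the configuration: `z`, `t` commuting distinct good involutions, `a` centralizes `z` but not
`t`, `b` centralizes `t` but not `z`. -/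
structure Pair (z t a b : L) : Prop where
  hz : Good z
  ht : Good t
  ne : z ≠ t
  zt : z * t = t * z
  az : a * z = z * a
  at' : a * t ≠ t * a
  bt : b * t = t * b
  bz : b * z ≠ z * b

namespace Pair

variable {z t a b : L} (P : Pair z t a b)
include P

theorem a_t : a * t = t * z * a := by
  rcases P.hz.comm_mem a t P.az P.zt.symm with h | h
  · exact absurd (comm_form_one h) P.at'
  · rw [comm_form h, P.zt]

theorem b_z : b * z = z * t * b := by
  rcases P.ht.comm_mem b z P.bt P.zt with h | h
  · exact absurd (comm_form_one h) P.bz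
  · rw [comm_form h, P.zt]

theorem inD_z : InD z t z := ⟨rfl, P.zt⟩
theorem inD_t : InD z t t := ⟨P.zt.symm, rfl⟩

theorem inD_mul {x y : L} (hx : InD z t x) (hy : InD z t y) : InD z t (x * y) :=
  ⟨by rw [mul_assoc, hy.1, ← mul_assoc, hx.1, mul_assoc],
   by rw [mul_assoc, hy.2, ← mul_assoc, hx.2, mul_assoc]⟩

theorem D_sq {y : L} (hy : InD z t y) : y * y = 1 := by
  rcases P.hz.sq_mem y hy.1 with h | h
  · exact h
  · rcases P.ht.sq_mem y hy.2 with h' | h'
    · exact h'
    · exact absurd (h.symm.trans h') P.ne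

theorem D_comm {x y : L} (hx : InD z t x) (hy : InD z t y) : x * y = y * x := by
  rcases P.hz.comm_mem x y hx.1 hy.1 with h | h
  · exact comm_form_one h
  · rcases P.ht.comm_mem x y hx.2 hy.2 with h' | h'
    · exact comm_form_one h'
    · exact absurd (h.symm.trans h') P.ne

theorem a_D {y : L} (hy : InD z t y) : a * y = y * a ∨ a * y = z * y * a := by
  rcases P.hz.comm_mem a y P.az hy.1 with h | h
  · left; exact comm_form_one h
  · right; exact comm_form h

theorem b_D {y : L} (hy : InD z t y) : b * y = y * b ∨ b * y = t * y * b := by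
  rcases P.ht.comm_mem b y P.bt hy.2 with h | h
  · left; exact comm_form_one h
  · right; exact comm_form h

theorem ainv_z : a⁻¹ * z = z * a⁻¹ := by
  have := P.az
  calc a⁻¹ * z = a⁻¹ * (z * a) * a⁻¹ := by group
    _ = a⁻¹ * (a * z) * a⁻¹ := by rw [this]
    _ = z * a⁻¹ := by group

theorem binv_t : b⁻¹ * t = t * b⁻¹ := by
  have := P.bt
  calc b⁻¹ * t = b⁻¹ * (t * b) * b⁻¹ := by group
    _ = b⁻¹ * (b * t) * b⁻¹ := by rw [this]
    _ = t * b⁻¹ := by group

theorem ainv_t : a⁻¹ * t = t * z * a⁻¹ := by
  have h1 := P.a_t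
  have h2 := P.ainv_z
  -- t = a⁻¹ (t z a) ... solve for a⁻¹ t
  have h3 : t * a⁻¹ = a⁻¹ * t * z := by
    calc t * a⁻¹ = a⁻¹ * (a * t) * a⁻¹ := by group
      _ = a⁻¹ * (t * z * a) * a⁻¹ := by rw [h1]
      _ = a⁻¹ * t * z := by group
  calc a⁻¹ * t = a⁻¹ * t * (z * z) := by rw [P.hz.sq, mul_one]
    _ = (a⁻¹ * t * z) * z := by group
    _ = t * a⁻¹ * z := by rw [h3]
    _ = t * (a⁻¹ * z) := by group
    _ = t * (z * a⁻¹) := by rw [h2]
    _ = t * z * a⁻¹ := by group

theorem binv_z : b⁻¹ * z = z * t * b⁻¹ := by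
  have h1 := P.b_z
  have h2 := P.binv_t
  have h3 : z * b⁻¹ = b⁻¹ * z * t := by
    calc z * b⁻¹ = b⁻¹ * (b * z) * b⁻¹ := by group
      _ = b⁻¹ * (z * t * b) * b⁻¹ := by rw [h1]
      _ = b⁻¹ * z * t := by group
  calc b⁻¹ * z = b⁻¹ * z * (t * t) := by rw [P.ht.sq, mul_one]
    _ = (b⁻¹ * z * t) * t := by group
    _ = z * b⁻¹ * t := by rw [h3]
    _ = z * (b⁻¹ * t) := by group
    _ = z * (t * b⁻¹) := by rw [h2]
    _ = z * t * b⁻¹ := by group

/-- the centralizer of `z` is the union of two cosets of `D` -/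
theorem split_z {x : L} (hx : x * z = z * x) : x * t = t * x ∨ (a⁻¹ * x) * t = t * (a⁻¹ * x) := by
  rcases P.hz.comm_mem x t hx P.zt.symm with h | h
  · left; exact comm_form_one h
  · right
    have h1 : x * t = z * t * x := comm_form h
    calc a⁻¹ * x * t = a⁻¹ * (x * t) := by group
      _ = a⁻¹ * (z * t * x) := by rw [h1]
      _ = (a⁻¹ * z) * t * x := by group
      _ = (z * a⁻¹) * t * x := by rw [P.ainv_z]
      _ = z * (a⁻¹ * t) * x := by group
      _ = z * (t * z * a⁻¹) * x := by rw [P.ainv_t]
      _ = (z * t) * z * a⁻¹ * x := by group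
      _ = (t * z) * z * a⁻¹ * x := by rw [P.zt]
      _ = t * (z * z) * a⁻¹ * x := by group
      _ = t * (a⁻¹ * x) := by rw [P.hz.sq]; group

theorem split_t {x : L} (hx : x * t = t * x) : x * z = z * x ∨ (b⁻¹ * x) * z = z * (b⁻¹ * x) := by
  rcases P.ht.comm_mem x z hx P.zt with h | h
  · left; exact comm_form_one h
  · right
    have h1 : x * z = t * z * x := comm_form h
    calc b⁻¹ * x * z = b⁻¹ * (x * z) := by group
      _ = b⁻¹ * (t * z * x) := by rw [h1]
      _ = (b⁻¹ * t) * z * x := by group
      _ = (t * b⁻¹) * z * x := by rw [P.binv_t]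
      _ = t * (b⁻¹ * z) * x := by group
      _ = t * (z * t * b⁻¹) * x := by rw [P.binv_z]
      _ = (t * z) * t * b⁻¹ * x := by group
      _ = (z * t) * t * b⁻¹ * x := by rw [P.zt]
      _ = z * (t * t) * b⁻¹ * x := by group
      _ = z * (b⁻¹ * x) := by rw [P.ht.sq]; group

/-- `D₀ = Z(C(z)) ∩ Z(C(t))` -/
def D0 (z t d : L) : Prop := InZ z d ∧ InZ t d

omit P in
theorem D0.inD {z t d : L} (hd : D0 z t d) : InD z t d := ⟨hd.1.1, hd.2.1⟩

omit P in
theorem D0.mul {z t d e : L} (hd : D0 z t d) (he : D0 z t e) : D0 z t (d * e) :=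
  ⟨hd.1.mul he.1, hd.2.mul he.2⟩

omit P in
theorem D0.inv {z t d : L} (hd : D0 z t d) : D0 z t d⁻¹ := ⟨hd.1.inv, hd.2.inv⟩

/-- an element of `D` commuting with `a` and `b` lies in `D₀` -/
theorem D0_of_commute {d : L} (hd : InD z t d) (ha : a * d = d * a) (hb : b * d = d * b) :
    D0 z t d := by
  refine ⟨⟨hd.1, ?_⟩, ⟨hd.2, ?_⟩⟩
  · intro x hx
    rcases P.split_z hx with h | h
    · exact P.D_comm hd ⟨hx, h⟩
    · have hD : InD z t (a⁻¹ * x) := by
        refine ⟨?_, h⟩
        rw [mul_assoc, hx, ← mul_assoc, P.ainv_z, mul_assoc]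
      have h1 := P.D_comm hd hD
      calc d * x = d * (a * (a⁻¹ * x)) := by group
        _ = (d * a) * (a⁻¹ * x) := by group
        _ = (a * d) * (a⁻¹ * x) := by rw [ha]
        _ = a * (d * (a⁻¹ * x)) := by group
        _ = a * ((a⁻¹ * x) * d) := by rw [h1]
        _ = x * d := by group
  · intro x hx
    rcases P.split_t hx with h | h
    · exact P.D_comm hd ⟨h, hx⟩
    · have hD : InD z t (b⁻¹ * x) := by
        refine ⟨h, ?_⟩
        rw [mul_assoc, hx, ← mul_assoc, P.binv_t, mul_assoc]
      have h1 := P.D_comm hd hD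
      calc d * x = d * (b * (b⁻¹ * x)) := by group
        _ = (d * b) * (b⁻¹ * x) := by group
        _ = (b * d) * (b⁻¹ * x) := by rw [hb]
        _ = b * (d * (b⁻¹ * x)) := by group
        _ = b * ((b⁻¹ * x) * d) := by rw [h1]
        _ = x * d := by group

theorem not_D0_z : ¬ D0 z t z := by
  intro h
  exact P.bz (h.2.2 b P.bt).symm

theorem not_inZ_t : ¬ InZ z t := by
  intro h
  exact P.at' (h.2 a P.az).symm


/-! ### decomposition of `D` -/

theorem a_D0 {d : L} (hd : D0 z t d) : a * d = d * a := (hd.1.2 a P.az).symm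

theorem b_D0 {d : L} (hd : D0 z t d) : b * d = d * b := (hd.2.2 b P.bt).symm

theorem inD_one : InD z t (1 : L) := ⟨by simp, by simp⟩

/-- every element of `D` is `d`, `z d`, `t d` or `t z d` with `d ∈ D₀`. -/
theorem decomp {y : L} (hy : InD z t y) :
    ∃ d, D0 z t d ∧ (y = d ∨ y = z * d ∨ y = t * d ∨ y = t * z * d) := by
  have hzz := P.hz.sq
  have htt := P.ht.sq
  have hyz := hy.1
  have hyt := hy.2
  have hzt := P.zt
  rcases P.a_D hy with ha | ha <;> rcases P.b_D hy with hb | hb
  · exact ⟨y, P.D0_of_commute hy ha hb, Or.inl rfl⟩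
  · -- a y = y a, b y = t y b : d = z * y
    refine ⟨z * y, P.D0_of_commute (P.inD_mul P.inD_z hy) ?_ ?_, Or.inr (Or.inl ?_)⟩
    · calc a * (z * y) = (a * z) * y := by group
        _ = z * a * y := by rw [P.az]
        _ = z * (a * y) := by group
        _ = z * (y * a) := by rw [ha]
        _ = z * y * a := by group
    · calc b * (z * y) = (b * z) * y := by group
        _ = z * t * b * y := by rw [P.b_z]
        _ = z * t * (b * y) := by group
        _ = z * t * (t * y * b) := by rw [hb]
        _ = z * (t * t) * y * b := by group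
        _ = z * y * b := by rw [htt, mul_one]
    · calc y = (z * z) * y := by rw [hzz, one_mul]
        _ = z * (z * y) := by group
  · -- a y = z y a, b y = y b : d = t * y
    refine ⟨t * y, P.D0_of_commute (P.inD_mul P.inD_t hy) ?_ ?_,
      Or.inr (Or.inr (Or.inl ?_))⟩
    · calc a * (t * y) = (a * t) * y := by group
        _ = t * z * a * y := by rw [P.a_t]
        _ = t * z * (a * y) := by group
        _ = t * z * (z * y * a) := by rw [ha]
        _ = t * (z * z) * y * a := by group
        _ = t * y * a := by rw [hzz, mul_one]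
    · calc b * (t * y) = (b * t) * y := by group
        _ = t * b * y := by rw [P.bt]
        _ = t * (b * y) := by group
        _ = t * (y * b) := by rw [hb]
        _ = t * y * b := by group
    · calc y = (t * t) * y := by rw [htt, one_mul]
        _ = t * (t * y) := by group
  · -- a y = z y a, b y = t y b : d = t * z * y  (note y = t z d)
    refine ⟨t * z * y, P.D0_of_commute (P.inD_mul (P.inD_mul P.inD_t P.inD_z) hy) ?_ ?_,
      Or.inr (Or.inr (Or.inr ?_))⟩
    · calc a * (t * z * y) = (a * t) * z * y := by group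
        _ = t * z * a * z * y := by rw [P.a_t]
        _ = t * z * (a * z) * y := by group
        _ = t * z * (z * a) * y := by rw [P.az]
        _ = t * (z * z) * (a * y) := by group
        _ = t * (z * z) * (z * y * a) := by rw [ha]
        _ = t * z * y * a := by rw [hzz]; group
    · calc b * (t * z * y) = (b * t) * z * y := by group
        _ = t * b * z * y := by rw [P.bt]
        _ = t * (b * z) * y := by group
        _ = t * (z * t * b) * y := by rw [P.b_z]
        _ = t * z * t * (b * y) := by group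
        _ = t * z * t * (t * y * b) := by rw [hb]
        _ = t * z * (t * t) * y * b := by group
        _ = t * z * y * b := by rw [htt, mul_one]
    · calc y = (t * t) * ((z * z) * y) := by rw [htt, hzz, one_mul, one_mul]
        _ = t * (t * z) * (z * y) := by group
        _ = t * (z * t) * (z * y) := by rw [hzt]
        _ = t * z * (t * z * y) := by group

/-- `k = a * b` conjugates `z` to `t`. -/
theorem k_z : (a * b) * z = t * (a * b) := by
  calc a * b * z = a * (b * z) := by group
    _ = a * (z * t * b) := by rw [P.b_z]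
    _ = (a * z) * t * b := by group
    _ = z * a * t * b := by rw [P.az]
    _ = z * (a * t) * b := by group
    _ = z * (t * z * a) * b := by rw [P.a_t]
    _ = (z * t) * z * a * b := by group
    _ = (t * z) * z * a * b := by rw [P.zt]
    _ = t * (z * z) * (a * b) := by group
    _ = t * (a * b) := by rw [P.hz.sq, mul_one]

/-- `k = a * b` conjugates `t` to `t z`. -/
theorem k_t : (a * b) * t = t * z * (a * b) := by
  calc a * b * t = a * (b * t) := by group
    _ = a * (t * b) := by rw [P.bt]
    _ = (a * t) * b := by group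
    _ = t * z * a * b := by rw [P.a_t]
    _ = t * z * (a * b) := by group

theorem k_D0 {d : L} (hd : D0 z t d) : (a * b) * d = d * (a * b) := by
  calc a * b * d = a * (b * d) := by group
    _ = a * (d * b) := by rw [P.b_D0 hd]
    _ = (a * d) * b := by group
    _ = d * a * b := by rw [P.a_D0 hd]
    _ = d * (a * b) := by group

/-- (A) an element of `D` outside `Z(C(z))` is `t d` or `t z d`, `d ∈ D₀`, and is conjugate to
`z d`. -/
theorem outA {y : L} (hy : InD z t y) (hny : ¬ InZ z y) :
    ∃ d, D0 z t d ∧ (y = t * d ∨ y = t * z * d) ∧ ∃ g : L, g * (z * d) * g⁻¹ = y := by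
  obtain ⟨d, hd, h | h | h | h⟩ := P.decomp hy
  · exact absurd (h ▸ hd.1) hny
  · exact absurd (h ▸ (InZ.self z).mul hd.1) hny
  · refine ⟨d, hd, Or.inl h, a * b, ?_⟩
    rw [h]
    calc a * b * (z * d) * (a * b)⁻¹ = (a * b * z) * d * (a * b)⁻¹ := by group
      _ = t * (a * b) * d * (a * b)⁻¹ := by rw [P.k_z]
      _ = t * ((a * b) * d) * (a * b)⁻¹ := by group
      _ = t * (d * (a * b)) * (a * b)⁻¹ := by rw [P.k_D0 hd]
      _ = t * d := by group
  · refine ⟨d, hd, Or.inr h, (a * b) * (a * b), ?_⟩
    rw [h]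
    have e1 : (a * b) * (z * d) = t * d * (a * b) := by
      calc a * b * (z * d) = (a * b * z) * d := by group
        _ = t * (a * b) * d := by rw [P.k_z]
        _ = t * ((a * b) * d) := by group
        _ = t * (d * (a * b)) := by rw [P.k_D0 hd]
        _ = t * d * (a * b) := by group
    have e2 : (a * b) * (t * d) = t * z * d * (a * b) := by
      calc a * b * (t * d) = (a * b * t) * d := by group
        _ = t * z * (a * b) * d := by rw [P.k_t]
        _ = t * z * ((a * b) * d) := by group
        _ = t * z * (d * (a * b)) := by rw [P.k_D0 hd]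
        _ = t * z * d * (a * b) := by group
    calc (a * b) * (a * b) * (z * d) * ((a * b) * (a * b))⁻¹
        = (a * b) * ((a * b) * (z * d)) * (a * b)⁻¹ * (a * b)⁻¹ := by group
      _ = (a * b) * (t * d * (a * b)) * (a * b)⁻¹ * (a * b)⁻¹ := by rw [e1]
      _ = ((a * b) * (t * d)) * (a * b)⁻¹ := by group
      _ = (t * z * d * (a * b)) * (a * b)⁻¹ := by rw [e2]
      _ = t * z * d := by group

/-- (B) an element of `Z(C(z))` is `d` or `z d` with `d ∈ D₀`. -/
theorem outB {x : L} (hx : InZ z x) : D0 z t x ∨ D0 z t (z * x) := by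
  have hxD : InD z t x := ⟨hx.1, hx.2 t P.zt.symm⟩
  have ha : a * x = x * a := (hx.2 a P.az).symm
  rcases P.b_D hxD with hb | hb
  · left; exact P.D0_of_commute hxD ha hb
  · right
    refine P.D0_of_commute (P.inD_mul P.inD_z hxD) ?_ ?_
    · calc a * (z * x) = (a * z) * x := by group
        _ = z * a * x := by rw [P.az]
        _ = z * (a * x) := by group
        _ = z * (x * a) := by rw [ha]
        _ = z * x * a := by group
    · calc b * (z * x) = (b * z) * x := by group
        _ = z * t * b * x := by rw [P.b_z]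
        _ = z * t * (b * x) := by group
        _ = z * t * (t * x * b) := by rw [hb]
        _ = z * (t * t) * x * b := by group
        _ = z * x * b := by rw [P.ht.sq, mul_one]

/-- two involutions of `C(z)` outside `C(t)` differ by an element of `Z(C(z))`. -/
theorem inv_outside {u v : L} (hu : u * z = z * u) (hv : v * z = z * v)
    (hut : u * t ≠ t * u) (hvt : v * t ≠ t * v) (huu : u * u = 1) (hvv : v * v = 1) :
    InZ z (v * u) := by
  have hu_t : u * t = t * z * u := by
    rcases P.hz.comm_mem u t hu P.zt.symm with h | h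
    · exact absurd (comm_form_one h) hut
    · rw [comm_form h, P.zt]
  have hv_t : v * t = t * z * v := by
    rcases P.hz.comm_mem v t hv P.zt.symm with h | h
    · exact absurd (comm_form_one h) hvt
    · rw [comm_form h, P.zt]
  have hzz := P.hz.sq
  have htt := P.ht.sq
  have hzt := P.zt
  have heD : InD z t (v * u) := by
    refine ⟨by rw [mul_assoc, hu, ← mul_assoc, hv, mul_assoc], ?_⟩
    calc v * u * t = v * (u * t) := by group
      _ = v * (t * z * u) := by rw [hu_t]
      _ = (v * t) * z * u := by group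
      _ = t * z * v * z * u := by rw [hv_t]
      _ = t * z * (v * z) * u := by group
      _ = t * z * (z * v) * u := by rw [hv]
      _ = t * (z * z) * (v * u) := by group
      _ = t * (v * u) := by rw [hzz, mul_one]
  have hv_eq : v = (v * u) * u := by
    calc v = v * (u * u) := by rw [huu, mul_one]
      _ = (v * u) * u := by group
  -- if `v * u = t * w` with `w` commuting with `u, t, z`, of square one, then `v * v = z`
  have bad : ∀ w : L, w * w = 1 → w * u = u * w → w * t = t * w → v * u = t * w → False := by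
    intro w hww hwu hwt he
    have : v * v = z := by
      calc v * v = ((v * u) * u) * ((v * u) * u) := by rw [← hv_eq]
        _ = (t * w * u) * (t * w * u) := by rw [he]
        _ = t * (w * u) * t * w * u := by group
        _ = t * (u * w) * t * w * u := by rw [hwu]
        _ = t * u * (w * t) * w * u := by group
        _ = t * u * (t * w) * w * u := by rw [hwt]
        _ = t * (u * t) * (w * w) * u := by group
        _ = t * (t * z * u) * 1 * u := by rw [hu_t, hww]
        _ = (t * t) * z * (u * u) := by group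
        _ = z := by rw [htt, huu, one_mul, mul_one]
    exact P.hz.ne_one (this.symm.trans hvv)
  obtain ⟨d, hd, h | h | h | h⟩ := P.decomp heD
  · exact h ▸ hd.1
  · exact h ▸ (InZ.self z).mul hd.1
  · exfalso
    exact bad d (P.D_sq hd.inD) (hd.1.2 u hu) hd.inD.2 h
  · exfalso
    have hzd : InZ z (z * d) := (InZ.self z).mul hd.1
    have hzdD : InD z t (z * d) := P.inD_mul P.inD_z hd.inD
    refine bad (z * d) (P.D_sq hzdD) (hzd.2 u hu) hzdD.2 ?_
    rw [h]; group

end Pair

end Cfsg.Agent.Lib.Helper48.D8Char
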