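import Mathlib
import Cfsg.Agent.Lib.Helper48.D8Char.Pair

set_option autoImplicit false

/-! Abstract form of the argument: if `C(z)` has all squares and commutators in `{1, z}`, fusion of
`Z(C(z))` is trivial, every involution of `C(z)` is fused to another one, extremal conjugation and a
Thompson transfer principle are available, then `Z(C(z)) ∩ Z(C(t)) = 1` for a conjugate `t ≠ z`
of `z` in `C(z)`. -/

namespace Cfsg.Agent.Lib.Helper48.D8Char

variable {L : Type*} [Group L]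

theorem InZ.conj {s x : L} (hx : InZ s x) (g : L) : InZ (g * s * g⁻¹) (g * x * g⁻¹) := by
  refine ⟨?_, ?_⟩
  · calc g * x * g⁻¹ * (g * s * g⁻¹) = g * (x * s) * g⁻¹ := by group
      _ = g * (s * x) * g⁻¹ := by rw [hx.1]
      _ = g * s * g⁻¹ * (g * x * g⁻¹) := by group
  · intro y hy
    have hy' : (g⁻¹ * y * g) * s = s * (g⁻¹ * y * g) := by
      calc g⁻¹ * y * g * s = g⁻¹ * (y * (g * s * g⁻¹)) * g := by group
        _ = g⁻¹ * (g * s * g⁻¹ * y) * g := by rw [hy]
        _ = s * (g⁻¹ * y * g) := by group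
    have := hx.2 _ hy'
    calc g * x * g⁻¹ * y = g * (x * (g⁻¹ * y * g)) * g⁻¹ := by group
      _ = g * ((g⁻¹ * y * g) * x) * g⁻¹ := by rw [this]
      _ = y * (g * x * g⁻¹) := by group

/-- the elements of the subgroup generated by two commuting involutions -/
theorem mem_closure_pair {z t : L} (hzz : z * z = 1) (htt : t * t = 1) (hzt : z * t = t * z)
    {x : L} (hx : x ∈ Subgroup.closure ({z, t} : Set L)) :
    x = 1 ∨ x = z ∨ x = t ∨ x = t * z := by
  have hzz' : ∀ w : L, z * (z * w) = w := fun w => by rw [← mul_assoc, hzz, one_mul]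
  have htt' : ∀ w : L, t * (t * w) = w := fun w => by rw [← mul_assoc, htt, one_mul]
  have hzt' : ∀ w : L, z * (t * w) = t * (z * w) := fun w => by
    rw [← mul_assoc, hzt, mul_assoc]
  have hzi : z⁻¹ = z := inv_eq_of_mul_eq_one_left hzz
  have hti : t⁻¹ = t := inv_eq_of_mul_eq_one_left htt
  induction hx using Subgroup.closure_induction with
  | mem y hy =>
    rcases hy with rfl | hy
    · right; left; rfl
    · rw [Set.mem_singleton_iff] at hy
      right; right; left; exact hy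
  | one => left; rfl
  | mul x y _ _ hx hy =>
    rcases hx with rfl | rfl | rfl | rfl <;> rcases hy with rfl | rfl | rfl | rfl <;>
      simp [mul_assoc, hzz, htt, hzt, hzz', htt', hzt']
  | inv x _ hx =>
    rcases hx with rfl | rfl | rfl | rfl <;>
      simp [mul_assoc, hzz, htt, hzt, hzz', htt', hzt', hzi, hti]

/-- the abstract context -/
structure Ctx (z : L) : Prop where
  good : Good z
  zfus : ∀ x y g : L, InZ z x → InZ z y → g * x * g⁻¹ = y → x = y
  zstar : ∀ u : L, u ≠ 1 → u * u = 1 → u * z = z * u →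
    ∃ g : L, (g * u * g⁻¹) * z = z * (g * u * g⁻¹) ∧ g * u * g⁻¹ ≠ u
  extremal : ∀ u c g₀ : L, InZ z c → g₀ * u * g₀⁻¹ = c →
    ∃ g : L, g * u * g⁻¹ = c ∧
      ∀ x, x * z = z * x → x * u = u * x → (g * x * g⁻¹) * z = z * (g * x * g⁻¹)
  thompson : ∀ (N : Subgroup L), (∀ x ∈ N, x * z = z * x) → z ∈ N → ∀ c y₀ : L,
    c * z = z * c → c ∉ N → y₀ ≠ 1 → y₀ * y₀ = 1 →
    (∀ g : L, (g * y₀ * g⁻¹) * z = z * (g * y₀ * g⁻¹) → ∃ n ∈ N, g * y₀ * g⁻¹ = n * c) → False

namespace Ctx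

variable {z : L} (C : Ctx z)
include C

/-- a conjugate `t ≠ z` of `z` in `C(z)` gives a `Pair`. -/
theorem exists_pair (g : L) (hcomm : (g * z * g⁻¹) * z = z * (g * z * g⁻¹))
    (hne : g * z * g⁻¹ ≠ z) : ∃ a b, Pair z (g * z * g⁻¹) a b := by
  set t := g * z * g⁻¹ with ht
  have hnZ : ¬ InZ z t := fun h => hne (C.zfus z t g (InZ.self z) h rfl).symm
  have hnZ' : ¬ InZ t z := by
    intro h
    have h1 := h.conj g⁻¹
    have e1 : g⁻¹ * t * g⁻¹⁻¹ = z := by rw [ht]; group
    rw [e1] at h1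
    have h2 := C.zfus z (g⁻¹ * z * g⁻¹⁻¹) g⁻¹ (InZ.self z) h1 rfl
    apply hne
    rw [ht]
    calc g * z * g⁻¹ = g * (g⁻¹ * z * g⁻¹⁻¹) * g⁻¹ := by rw [← h2]
      _ = z := by group
  have ha : ∃ a, a * z = z * a ∧ a * t ≠ t * a := by
    by_contra hcon
    push_neg at hcon
    exact hnZ ⟨hcomm, fun y hy => (hcon y hy).symm⟩
  have hb : ∃ b, b * t = t * b ∧ b * z ≠ z * b := by
    by_contra hcon
    push_neg at hcon
    exact hnZ' ⟨hcomm.symm, fun y hy => (hcon y hy).symm⟩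
  obtain ⟨a, ha1, ha2⟩ := ha
  obtain ⟨b, hb1, hb2⟩ := hb
  exact ⟨a, b, ⟨C.good, C.good.conj g, fun h => hne h.symm, hcomm.symm, ha1, ha2, hb1, hb2⟩⟩

/-- if `x`, `y` in `Z(C(z))` have a common conjugate then they are equal -/
theorem zfus' {x y w g h : L} (hx : InZ z x) (hy : InZ z y) (h1 : g * x * g⁻¹ = w)
    (h2 : h * y * h⁻¹ = w) : x = y := by
  refine C.zfus x y (h⁻¹ * g) hx hy ?_
  calc h⁻¹ * g * x * (h⁻¹ * g)⁻¹ = h⁻¹ * (g * x * g⁻¹) * h := by group
    _ = h⁻¹ * (h * y * h⁻¹) * h := by rw [h1, h2]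
    _ = y := by group

theorem D0_trivial {t a b : L} (P : Pair z t a b) {c : L} (hc : Pair.D0 z t c) : c = 1 := by
  by_contra hc1
  have hzz := C.good.sq
  have hcc : c * c = 1 := P.D_sq hc.inD
  have hcz : c * z = z * c := hc.1.1
  obtain ⟨h, huR, hune⟩ := C.zstar c hc1 hcc hcz
  set u := h * c * h⁻¹ with hu
  have huu : u * u = 1 := by
    calc u * u = h * (c * c) * h⁻¹ := by rw [hu]; group
      _ = 1 := by rw [hcc]; group
  have hnuZ : ¬ InZ z u := fun hZ => hune (C.zfus c u h hc.1 hZ rfl).symm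
  -- `u ∉ D`
  have hut : u * t ≠ t * u := by
    intro hut
    obtain ⟨d, hd, -, g, hg⟩ := P.outA ⟨huR, hut⟩ hnuZ
    have hzd : InZ z (z * d) := (InZ.self z).mul hd.1
    have e : c = z * d := C.zfus' hc.1 hzd (rfl : h * c * h⁻¹ = u) hg
    have : Pair.D0 z t (c * d⁻¹) := hc.mul hd.inv
    have e2 : c * d⁻¹ = z := by rw [e]; group
    rw [e2] at this
    exact P.not_D0_z this
  -- the second neighbour
  obtain ⟨g, hgc, hgR⟩ := C.extremal u c h⁻¹ hc.1 (by rw [hu]; group)
  have hzt₂ : (g⁻¹ * z * g⁻¹⁻¹) * z = z * (g⁻¹ * z * g⁻¹⁻¹) := by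
    have h1 := hgR z rfl huR.symm
    calc g⁻¹ * z * g⁻¹⁻¹ * z = g⁻¹ * (z * (g * z * g⁻¹)) * g := by group
      _ = g⁻¹ * ((g * z * g⁻¹) * z) * g := by rw [h1]
      _ = z * (g⁻¹ * z * g⁻¹⁻¹) := by group
  have hne₂ : g⁻¹ * z * g⁻¹⁻¹ ≠ z := by
    intro h1
    have hgz : g * z = z * g := by
      calc g * z = g * (g⁻¹ * z * g⁻¹⁻¹) := by rw [h1]
        _ = z * g := by group
    have hgi : g⁻¹ * z = z * g⁻¹ := by
      calc g⁻¹ * z = g⁻¹ * (z * g) * g⁻¹ := by group
        _ = g⁻¹ * (g * z) * g⁻¹ := by rw [hgz]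
        _ = z * g⁻¹ := by group
    have h2 : c * g = g * c := hc.1.2 g hgz
    apply hune
    calc u = g⁻¹ * (g * u * g⁻¹) * g := by group
      _ = g⁻¹ * c * g := by rw [hgc]
      _ = g⁻¹ * (c * g) := by group
      _ = g⁻¹ * (g * c) := by rw [h2]
      _ = c := by group
  obtain ⟨a₂, b₂, P₂⟩ := C.exists_pair g⁻¹ hzt₂ hne₂
  set t₂ := g⁻¹ * z * g⁻¹⁻¹ with ht₂
  -- elements of `C(z) ∩ C(u)` commute with `t₂`
  have hcomm₂ : ∀ x, x * z = z * x → x * u = u * x → x * t₂ = t₂ * x := by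
    intro x hxz hxu
    have h1 := hgR x hxz hxu
    calc x * t₂ = g⁻¹ * ((g * x * g⁻¹) * z) * g := by rw [ht₂]; group
      _ = g⁻¹ * (z * (g * x * g⁻¹)) * g := by rw [h1]
      _ = t₂ * x := by rw [ht₂]; group
  have hut₂ : u * t₂ = t₂ * u := hcomm₂ u huR rfl
  obtain ⟨d', hd', -, g', hg'⟩ := P₂.outA ⟨huR, hut₂⟩ hnuZ
  have hzd' : InZ z (z * d') := (InZ.self z).mul hd'.1
  have e' : c = z * d' := C.zfus' hc.1 hzd' (rfl : h * c * h⁻¹ = u) hg'
  have hy₀ : Pair.D0 z t₂ (z * c) := by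
    have : z * c = d' := by rw [e', ← mul_assoc, hzz, one_mul]
    rw [this]; exact hd'
  have hy₀D : InD z t (z * c) := P.inD_mul P.inD_z hc.inD
  have hy₀Z : InZ z (z * c) := (InZ.self z).mul hc.1
  have hy₀1 : z * c ≠ 1 := by
    intro h1
    have : c = z := by
      calc c = z * (z * c) := by rw [← mul_assoc, hzz, one_mul]
        _ = z := by rw [h1, mul_one]
    rw [this] at hc
    exact P.not_D0_z hc
  have hy₀sq : (z * c) * (z * c) = 1 := P.D_sq hy₀D
  -- the four group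
  have hN1 : ∀ x ∈ Subgroup.closure ({z, t} : Set L), x * z = z * x := by
    intro x hx
    have hle : Subgroup.closure ({z, t} : Set L) ≤ Subgroup.centralizer ({z} : Set L) := by
      rw [Subgroup.closure_le]
      intro y hy
      rw [SetLike.mem_coe, Subgroup.mem_centralizer_iff]
      intro w hw
      rw [Set.mem_singleton_iff] at hw
      rw [hw]
      rcases hy with rfl | hy
      · rfl
      · rw [Set.mem_singleton_iff] at hy
        rw [hy]; exact P.zt
    have := hle hx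
    rw [Subgroup.mem_centralizer_iff] at this
    exact (this z rfl).symm
  have hzN : z ∈ Subgroup.closure ({z, t} : Set L) := Subgroup.subset_closure (by simp)
  have htN : t ∈ Subgroup.closure ({z, t} : Set L) := Subgroup.subset_closure (by simp)
  have hcN : c ∉ Subgroup.closure ({z, t} : Set L) := by
    intro hcN
    rcases mem_closure_pair hzz P.ht.sq P.zt hcN with h1 | h1 | h1 | h1
    · exact hc1 h1
    · rw [h1] at hc; exact P.not_D0_z hc
    · rw [h1] at hc; exact P.not_inZ_t hc.1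
    · have : InZ z (c * z⁻¹) := hc.1.mul (InZ.self z).inv
      have e2 : c * z⁻¹ = t := by rw [h1]; group
      rw [e2] at this
      exact P.not_inZ_t this
  refine C.thompson _ hN1 hzN c (z * c) hcz hcN hy₀1 hy₀sq ?_
  intro k hkR
  set v := k * (z * c) * k⁻¹ with hv
  have hvv : v * v = 1 := by
    calc v * v = k * ((z * c) * (z * c)) * k⁻¹ := by rw [hv]; group
      _ = 1 := by rw [hy₀sq]; group
  by_cases hvZ : InZ z v
  · refine ⟨z, hzN, ?_⟩
    exact (C.zfus (z * c) v k hy₀Z hvZ rfl).symm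
  · by_cases hvt : v * t = t * v
    · obtain ⟨d, hd, hform, g'', hg''⟩ := P.outA ⟨hkR, hvt⟩ hvZ
      have hzd : InZ z (z * d) := (InZ.self z).mul hd.1
      have e3 : z * c = z * d := C.zfus' hy₀Z hzd (rfl : k * (z * c) * k⁻¹ = v) hg''
      have e4 : d = c := (mul_left_cancel e3).symm
      rcases hform with h1 | h1
      · exact ⟨t, htN, by rw [h1, e4]⟩
      · exact ⟨t * z, Subgroup.mul_mem _ htN hzN, by rw [h1, e4]⟩
    · exfalso
      have heZ : InZ z (v * u) := P.inv_outside huR hkR hut hvt huu hvv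
      have hv_eq : v = (v * u) * u := by
        calc v = v * (u * u) := by rw [huu, mul_one]
          _ = (v * u) * u := by group
      have het₂ : (v * u) * t₂ = t₂ * (v * u) := heZ.2 t₂ hzt₂
      have hvt₂ : v * t₂ = t₂ * v := by
        rw [hv_eq, mul_assoc, hut₂, ← mul_assoc, het₂, mul_assoc]
      obtain ⟨d'', hd'', -, g'', hg''⟩ := P₂.outA ⟨hkR, hvt₂⟩ hvZ
      have hzd'' : InZ z (z * d'') := (InZ.self z).mul hd''.1
      have e3 : z * c = z * d'' := C.zfus' hy₀Z hzd'' (rfl : k * (z * c) * k⁻¹ = v) hg''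
      have : Pair.D0 z t₂ ((z * c) * d''⁻¹) := hy₀.mul hd''.inv
      have e5 : (z * c) * d''⁻¹ = z := by rw [e3]; group
      rw [e5] at this
      exact P₂.not_D0_z this

/-- consequences of `D₀ = 1` -/
theorem center_small {t a b : L} (P : Pair z t a b) {x : L} (hx : InZ z x) : x = 1 ∨ x = z := by
  rcases P.outB hx with h | h
  · left; exact C.D0_trivial P h
  · right
    have h1 := C.D0_trivial P h
    calc x = z * (z * x) := by rw [← mul_assoc, C.good.sq, one_mul]
      _ = z := by rw [h1, mul_one]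

theorem D_small {t a b : L} (P : Pair z t a b) {y : L} (hy : InD z t y) :
    y = 1 ∨ y = z ∨ y = t ∨ y = t * z := by
  obtain ⟨d, hd, h⟩ := P.decomp hy
  have hd1 := C.D0_trivial P hd
  rw [hd1] at h
  simpa using h

end Ctx

end Cfsg.Agent.Lib.Helper48.D8Char
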