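import Mathlib
import Cfsg.Agent.Lib.Helper48.D8Char.Abstract
import Cfsg.Agent.S0215
import Cfsg.Agent.S0012
import Cfsg.Agent.S0013
import Cfsg.Agent.Lib.Helper61.Fusion
import Cfsg.Agent.Lib.Helper60.ThompsonTransfer
import Cfsg.Agent.Lib.Helper01.PGroupMax

set_option autoImplicit false

/-! The abstract context `Ctx z` holds when `C(z)` is a Sylow `2`-subgroup with Frattini subgroup
`⟨z⟩` in a simple non-abelian group. -/

namespace Cfsg.Agent.Lib.Helper48.D8Char

theorem mem_zpowers_two {L : Type*} [Group L] {z y : L} (hz : orderOf z = 2)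
    (hy : y ∈ Subgroup.zpowers z) : y = 1 ∨ y = z := by
  obtain ⟨k, rfl⟩ := Subgroup.mem_zpowers_iff.mp hy
  rw [← zpow_mod_orderOf, hz]
  have : (k % ((2 : ℕ) : ℤ)) = 0 ∨ (k % ((2 : ℕ) : ℤ)) = 1 := by omega
  rcases this with h | h <;> rw [h] <;> simp

/-- a subgroup containing the commutator subgroup is normal -/
theorem normal_of_commutator_le' {G : Type*} [Group G] {M : Subgroup G} (h : commutator G ≤ M) :
    M.Normal := by
  constructor
  intro m hm g
  have h1 : g * m * g⁻¹ * m⁻¹ ∈ M := by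
    apply h
    rw [commutator_def]
    have := Subgroup.commutator_mem_commutator (Subgroup.mem_top g) (Subgroup.mem_top m)
    simpa [commutatorElement_def] using this
  have h2 := M.mul_mem h1 hm
  simpa using h2

/-- for `x ∉ N` there is a maximal subgroup containing `N` but not `x`
(adapted from the proof of `S0013`). -/
theorem exists_coatom_ge_not_mem {G : Type*} [Group G] [Finite G] (p : ℕ) [hp : Fact p.Prime]
    (N : Subgroup G) (hcomm : commutator G ≤ N) (hpow : ∀ x : G, x ^ p ∈ N) (x : G) (hx : x ∉ N) :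
    ∃ M : Subgroup G, IsCoatom M ∧ N ≤ M ∧ x ∉ M := by
  let 𝒮 : Set (Subgroup G) := {M | N ≤ M ∧ x ∉ M}
  obtain ⟨M, ⟨hNM, hxM⟩, hmax⟩ := Set.exists_max_image 𝒮 (fun M => Nat.card M) (Set.toFinite _)
    ⟨N, le_rfl, hx⟩
  have hMn : M.Normal := normal_of_commutator_le' (hcomm.trans hNM)
  have hgt : ∀ K : Subgroup G, M < K → x ∈ K := by
    intro K hK
    by_contra hxK
    have := hmax K ⟨hNM.trans hK.le, hxK⟩
    exact (ne_of_lt hK) (Subgroup.eq_of_le_of_card_ge hK.le this)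
  refine ⟨M, ⟨fun h => hxM (h ▸ Subgroup.mem_top x), ?_⟩, hNM, hxM⟩
  intro K hK
  rw [eq_top_iff]
  intro y _
  by_cases hyM : y ∈ M
  · exact hK.le hyM
  · have hK' : M < M ⊔ Subgroup.zpowers y := by
      refine lt_of_le_of_ne le_sup_left ?_
      intro h
      apply hyM
      rw [h]
      exact le_sup_right (a := M) (Subgroup.mem_zpowers y)
    have hxK := hgt _ hK'
    obtain ⟨m, hm, w, hw, hmw⟩ := Subgroup.mem_sup_of_normal_left.mp hxK
    obtain ⟨k, rfl⟩ := Subgroup.mem_zpowers_iff.mp hw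
    have hxL : x ∈ K := hgt K hK
    have hykL : y ^ k ∈ K := by
      have : y ^ k = m⁻¹ * x := by rw [← hmw]; group
      rw [this]
      exact K.mul_mem (K.inv_mem (hK.le hm)) hxL
    have hypL : y ^ (p : ℤ) ∈ K := by
      rw [zpow_natCast]; exact hK.le (hNM (hpow y))
    have hndvd : ¬ (p : ℤ) ∣ k := by
      rintro ⟨c, rfl⟩
      apply hxM
      rw [← hmw]
      apply M.mul_mem hm
      rw [zpow_mul, zpow_natCast]
      exact M.zpow_mem (hNM (hpow y)) c
    have hirr : Irreducible (p : ℤ) := (Nat.prime_iff_prime_int.mp hp.out).irreducible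
    obtain ⟨a, b, hab⟩ := (hirr.coprime_iff_not_dvd.mpr hndvd)
    have : y = (y ^ (p : ℤ)) ^ a * (y ^ k) ^ b := by
      rw [← zpow_mul, ← zpow_mul, ← zpow_add, mul_comm (p : ℤ) a, mul_comm k b, hab, zpow_one]
    rw [this]
    exact K.mul_mem (K.zpow_mem hypL a) (K.zpow_mem hykL b)

section

variable {L : Type*} [Group L] [Finite L]

/-- the hypotheses of the statement -/
structure Hyp (z : L) (R : Sylow 2 L) : Prop where
  simple : IsSimpleGroup L
  nonab : ¬ IsMulCommutative L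
  hz : orderOf z = 2
  hR : (R : Subgroup L) = Subgroup.centralizer ({z} : Set L)
  hΦ : (frattini ↥(R : Subgroup L)).map (R : Subgroup L).subtype = Subgroup.zpowers z

namespace Hyp

variable {z : L} {R : Sylow 2 L} (H : Hyp z R)
include H

theorem memR (x : L) : x ∈ (R : Subgroup L) ↔ x * z = z * x := by
  rw [H.hR, Subgroup.mem_centralizer_iff]
  constructor
  · intro h; exact (h z rfl).symm
  · intro h y hy
    rw [Set.mem_singleton_iff.mp hy]; exact h.symm

theorem z_ne_one : z ≠ 1 := by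
  intro h
  have := H.hz
  rw [h, orderOf_one] at this
  omega

theorem z_sq : z * z = 1 := by
  have := pow_orderOf_eq_one z
  rw [H.hz, pow_two] at this
  exact this

theorem sq_mem (x : L) (hx : x * z = z * x) : x * x = 1 ∨ x * x = z := by
  have hxR : x ∈ (R : Subgroup L) := (H.memR x).2 hx
  have h1 := (Cfsg.Agent.S0012.result 2 R.isPGroup').2 ⟨x, hxR⟩
  have h2 := Subgroup.mem_map_of_mem (R : Subgroup L).subtype h1
  rw [H.hΦ] at h2
  have h3 : ((R : Subgroup L).subtype (⟨x, hxR⟩ ^ 2) : L) = x * x := by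
    simp [pow_two]
  rw [h3] at h2
  exact mem_zpowers_two H.hz h2

theorem comm_mem (x y : L) (hx : x * z = z * x) (hy : y * z = z * y) :
    x * y * x⁻¹ * y⁻¹ = 1 ∨ x * y * x⁻¹ * y⁻¹ = z := by
  have hxR : x ∈ (R : Subgroup L) := (H.memR x).2 hx
  have hyR : y ∈ (R : Subgroup L) := (H.memR y).2 hy
  set x' : ↥(R : Subgroup L) := ⟨x, hxR⟩ with hx'
  set y' : ↥(R : Subgroup L) := ⟨y, hyR⟩ with hy'
  have h0 : x' * y' * x'⁻¹ * y'⁻¹ ∈ commutator ↥(R : Subgroup L) := by
    rw [commutator_def]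
    have := Subgroup.commutator_mem_commutator (Subgroup.mem_top x') (Subgroup.mem_top y')
    rwa [commutatorElement_def] at this
  have h1 := (Cfsg.Agent.S0012.result 2 R.isPGroup').1 h0
  have h2 := Subgroup.mem_map_of_mem (R : Subgroup L).subtype h1
  rw [H.hΦ] at h2
  have h3 : ((R : Subgroup L).subtype (x' * y' * x'⁻¹ * y'⁻¹) : L)
      = x * y * x⁻¹ * y⁻¹ := by
    simp [hx', hy']
  rw [h3] at h2
  exact mem_zpowers_two H.hz h2

theorem good : Good z := ⟨H.z_ne_one, H.z_sq, H.sq_mem, H.comm_mem⟩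

/-- some element of `R` squares to `z` -/
theorem exists_sq : ∃ x : L, x * z = z * x ∧ x * x = z := by
  by_contra hcon
  push_neg at hcon
  have hsq : ∀ x : ↥(R : Subgroup L), x * x = 1 := by
    intro x
    have hx := (H.memR x).1 x.2
    rcases H.sq_mem x hx with h | h
    · exact Subtype.ext h
    · exact absurd h (hcon x hx)
  have hinv : ∀ x : ↥(R : Subgroup L), x⁻¹ = x := fun x => inv_eq_of_mul_eq_one_left (hsq x)
  have hcomm : commutator ↥(R : Subgroup L) ≤ ⊥ := by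
    rw [commutator_def, Subgroup.commutator_le]
    intro g₁ _ g₂ _
    rw [Subgroup.mem_bot, commutatorElement_def, hinv, hinv]
    have := hsq (g₁ * g₂)
    calc g₁ * g₂ * g₁ * g₂ = (g₁ * g₂) * (g₁ * g₂) := by group
      _ = 1 := this
  have hpow : ∀ x : ↥(R : Subgroup L), x ^ 2 ∈ (⊥ : Subgroup ↥(R : Subgroup L)) := by
    intro x
    rw [Subgroup.mem_bot, pow_two]; exact hsq x
  have h1 := Cfsg.Agent.S0013.result 2 R.isPGroup' ⊥ hcomm hpow
  have h2 : frattini ↥(R : Subgroup L) = ⊥ := le_bot_iff.mp h1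
  have h3 := H.hΦ
  rw [h2, Subgroup.map_bot] at h3
  exact H.z_ne_one (Subgroup.zpowers_eq_bot.mp h3.symm)

/-- `N_L(R) = R` -/
theorem normalizer_comm (n : L)
    (hn : n ∈ Subgroup.normalizer (((R : Subgroup L)) : Set L)) : n * z = z * n := by
  obtain ⟨x, hxz, hxx⟩ := H.exists_sq
  have hxR : x ∈ (R : Subgroup L) := (H.memR x).2 hxz
  have h1 : n * x * n⁻¹ ∈ (R : Subgroup L) := (Subgroup.mem_normalizer_iff.mp hn x).1 hxR
  have h2 := (H.memR _).1 h1
  have h3 : (n * x * n⁻¹) * (n * x * n⁻¹) = n * z * n⁻¹ := by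
    calc (n * x * n⁻¹) * (n * x * n⁻¹) = n * (x * x) * n⁻¹ := by group
      _ = n * z * n⁻¹ := by rw [hxx]
  rcases H.sq_mem _ h2 with h | h
  · exfalso
    rw [h3] at h
    apply H.z_ne_one
    calc z = n⁻¹ * (n * z * n⁻¹) * n := by group
      _ = 1 := by rw [h]; group
  · rw [h3] at h
    calc n * z = (n * z * n⁻¹) * n := by group
      _ = z * n := by rw [h]

theorem zfus (x y g : L) (hx : InZ z x) (hy : InZ z y) (h : g * x * g⁻¹ = y) : x = y := by
  have hx' : ∀ s ∈ (R : Subgroup L), s * x = x * s := fun s hs => (hx.2 s ((H.memR s).1 hs)).symm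
  have hy' : ∀ s ∈ (R : Subgroup L), s * y = y * s := fun s hs => (hy.2 s ((H.memR s).1 hs)).symm
  obtain ⟨n, hn, hnx⟩ := Cfsg.Agent.Lib.Helper61.burnside_fusion R x y hx' hy' g h
  have hnz := H.normalizer_comm n hn
  have := hx.2 n hnz
  calc x = x * n * n⁻¹ := by group
    _ = n * x * n⁻¹ := by rw [this]
    _ = y := hnx

theorem zstar (u : L) (hu1 : u ≠ 1) (huu : u * u = 1) (huz : u * z = z * u) :
    ∃ g : L, (g * u * g⁻¹) * z = z * (g * u * g⁻¹) ∧ g * u * g⁻¹ ≠ u := by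
  haveI := H.simple
  by_contra hcon
  push_neg at hcon
  have hu2 : orderOf u = 2 := orderOf_eq_prime (by rw [pow_two]; exact huu) hu1
  have huR : u ∈ R := (H.memR u).2 huz
  have hiso : ∀ g : L, g * u * g⁻¹ ∈ R → g * u * g⁻¹ = u :=
    fun g hg => hcon g ((H.memR _).1 hg)
  obtain ⟨N, hN, hodd, hcomm⟩ := Cfsg.Agent.S0215.result R u hu2 huR hiso
  rcases hN.eq_bot_or_eq_top with h | h
  · -- `u` is central
    have hcen : u ∈ Subgroup.center L := by
      rw [Subgroup.mem_center_iff]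
      intro g
      have := hcomm g
      rw [h, Subgroup.mem_bot] at this
      calc g * u = (u * g * u⁻¹ * g⁻¹)⁻¹ * u * g := by group
        _ = u * g := by rw [this]; group
    rcases (inferInstance : (Subgroup.center L).Normal).eq_bot_or_eq_top with h' | h'
    · rw [h', Subgroup.mem_bot] at hcen
      exact hu1 hcen
    · apply H.nonab
      refine ⟨⟨fun a b => ?_⟩⟩
      have : b ∈ Subgroup.center L := by rw [h']; exact Subgroup.mem_top b
      rw [Subgroup.mem_center_iff] at this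
      exact this a
  · rw [h, Subgroup.card_top] at hodd
    have h2 : 2 ∣ Nat.card L := by
      have := orderOf_dvd_natCard z
      rwa [H.hz] at this
    rw [Nat.odd_iff] at hodd
    omega

theorem extremal (u c g₀ : L) (hc : InZ z c) (h : g₀ * u * g₀⁻¹ = c) :
    ∃ g : L, g * u * g⁻¹ = c ∧
      ∀ x, x * z = z * x → x * u = u * x → (g * x * g⁻¹) * z = z * (g * x * g⁻¹) := by
  have hc' : ∀ s ∈ (R : Subgroup L), s * c = c * s := fun s hs => (hc.2 s ((H.memR s).1 hs)).symm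
  obtain ⟨g, hg, hgR⟩ := Cfsg.Agent.Lib.Helper61.exists_conj_centralizer_le R u c hc' g₀ h
  exact ⟨g, hg, fun x hxz hxu => (H.memR _).1 (hgR x ((H.memR x).2 hxz) hxu)⟩

theorem thompson (N : Subgroup L) (hNR : ∀ x ∈ N, x * z = z * x) (hzN : z ∈ N) (c y₀ : L)
    (hcR : c * z = z * c) (hcN : c ∉ N) (hy1 : y₀ ≠ 1) (hyy : y₀ * y₀ = 1)
    (hconj : ∀ g : L, (g * y₀ * g⁻¹) * z = z * (g * y₀ * g⁻¹) → ∃ n ∈ N, g * y₀ * g⁻¹ = n * c) :
    False := by
  haveI := H.simple
  set N' : Subgroup ↥(R : Subgroup L) := N.subgroupOf (R : Subgroup L) with hN'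
  have h1N : (1 : L) ∈ N := N.one_mem
  have hcomm' : commutator ↥(R : Subgroup L) ≤ N' := by
    rw [commutator_def, Subgroup.commutator_le]
    intro g₁ _ g₂ _
    rw [hN', Subgroup.mem_subgroupOf]
    rw [commutatorElement_def]
    have h3 : ((g₁ * g₂ * g₁⁻¹ * g₂⁻¹ : ↥(R : Subgroup L)) : L)
        = (g₁ : L) * g₂ * (g₁ : L)⁻¹ * (g₂ : L)⁻¹ := by
      simp
    rw [h3]
    rcases H.comm_mem g₁ g₂ ((H.memR _).1 g₁.2) ((H.memR _).1 g₂.2) with h | h <;> rw [h]
    · exact h1N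
    · exact hzN
  have hpow' : ∀ x : ↥(R : Subgroup L), x ^ 2 ∈ N' := by
    intro x
    rw [hN', Subgroup.mem_subgroupOf]
    have h3 : ((x ^ 2 : ↥(R : Subgroup L)) : L) = (x : L) * x := by simp [pow_two]
    rw [h3]
    rcases H.sq_mem x ((H.memR _).1 x.2) with h | h <;> rw [h]
    · exact h1N
    · exact hzN
  have hcR' : c ∈ (R : Subgroup L) := (H.memR c).2 hcR
  have hcN' : (⟨c, hcR'⟩ : ↥(R : Subgroup L)) ∉ N' := by
    rw [hN', Subgroup.mem_subgroupOf]; exact hcN
  obtain ⟨M', hM'co, hNM', hcM'⟩ := exists_coatom_ge_not_mem 2 N' hcomm' hpow' _ hcN'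
  have hidx : M'.index = 2 := Cfsg.Agent.Lib.Helper01.IsPGroup_coatom_index R.isPGroup' hM'co
  set M : Subgroup L := M'.map (R : Subgroup L).subtype with hM
  have hMsub : M.subgroupOf (R : Subgroup L) = M' := by
    rw [hM, Subgroup.subgroupOf]
    exact Subgroup.comap_map_eq_self_of_injective (Subgroup.subtype_injective _) M'
  have hMrel : M.relIndex (R : Subgroup L) = 2 := by
    rw [Subgroup.relIndex, hMsub, hidx]
  have hmemM : ∀ (x : L) (hx : x ∈ (R : Subgroup L)), x ∈ M ↔ (⟨x, hx⟩ : ↥(R : Subgroup L)) ∈ M' := by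
    intro x hx
    rw [← hMsub, Subgroup.mem_subgroupOf]
  have hord : ∀ y ∈ (R : Subgroup L), y ∉ M → 2 ^ (1 - 1) < orderOf y := by
    intro y _ hyM
    have hy1' : y ≠ 1 := fun h => hyM (h ▸ M.one_mem)
    have h1 : orderOf y ≠ 1 := fun h => hy1' (orderOf_eq_one_iff.mp h)
    have h2 : 0 < orderOf y := orderOf_pos y
    simp only [Nat.sub_self, pow_zero]
    omega
  have hy₀ord : orderOf y₀ = 2 ^ 1 := by
    rw [pow_one]
    exact orderOf_eq_prime (by rw [pow_two]; exact hyy) hy1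
  have hnc : ∀ g : L, g * y₀ * g⁻¹ ∉ M := by
    intro g hgM
    obtain ⟨m', hm'M', hm'eq⟩ := Subgroup.mem_map.mp hgM
    have hgR : g * y₀ * g⁻¹ ∈ (R : Subgroup L) := by
      rw [← hm'eq]; exact m'.2
    obtain ⟨n, hnN, hn⟩ := hconj g ((H.memR _).1 hgR)
    have hnR : n ∈ (R : Subgroup L) := (H.memR n).2 (hNR n hnN)
    have hn' : (⟨n, hnR⟩ : ↥(R : Subgroup L)) ∈ M' := by
      apply hNM'
      rw [hN', Subgroup.mem_subgroupOf]; exact hnN
    apply hcM'
    have : (⟨c, hcR'⟩ : ↥(R : Subgroup L)) = (⟨n, hnR⟩ : ↥(R : Subgroup L))⁻¹ * m' := by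
      apply Subtype.ext
      have e1 : ((R : Subgroup L).subtype m' : L) = (m' : L) := rfl
      rw [e1] at hm'eq
      simp only [Subgroup.coe_mul, Subgroup.coe_inv, hm'eq, hn]
      group
    rw [this]
    exact M'.mul_mem (M'.inv_mem hn') hm'M'
  obtain ⟨K, hKn, hKi, -⟩ :=
    Cfsg.Agent.Lib.Helper60.thompson_transfer_general R M hMrel 1 le_rfl hord y₀ hy₀ord hnc
  rcases hKn.eq_bot_or_eq_top with h | h
  · rw [h, Subgroup.index_bot] at hKi
    haveI : Fact (Nat.Prime 2) := ⟨Nat.prime_two⟩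
    haveI : IsCyclic L := isCyclic_of_prime_card hKi
    exact H.nonab inferInstance
  · rw [h, Subgroup.index_top] at hKi
    omega

theorem ctx : Ctx z := ⟨H.good, H.zfus, H.zstar, H.extremal, H.thompson⟩

end Hyp

end

end Cfsg.Agent.Lib.Helper48.D8Char
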